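import Cfsg.Agent.H10.Fi22T.F6.RChk0

set_option autoImplicit false
set_option linter.all false

namespace Cfsg.Agent.H10.Fi22T

open Cfsg.Agent.H35 Cfsg.Spor

theorem f6_rall : ∀ p, p < 108 → f6_rf p = true := by
  apply allR_blocks f6_rf 108 10 1 _ (by decide)
  intro k hk
  interval_cases k
  · exact f6_rchk_0

theorem f6_circ_ok : circChk (fullW f6_rws f6_prels) f6_circT 0 f6_ccert = true := by decide +kernel
theorem f6_hc_ok : allR (fun c => hcChk f6_rsw f6_hc1T f6_hc2T c) 5 3 0 = true := by decide +kernel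
theorem f6_h0 : RData.aord (f6_rd.ent 0 1) = 0 := by decide +kernel

end Cfsg.Agent.H10.Fi22T
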